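import Groth.Agent.FlatMor12.Cube.Seesaw
import Groth.Agent.PicPn22.Main
import Groth.Agent.Quot8.PnFamily
import Groth.Agent.PicDef15.ClosedFibre
import Groth.Agent.Coherent.ProjSpaceCoh
import Groth.Agent.CurveLib.ProjLine

/-!
# Line bundles on projective space over a connected base
-/

set_option autoImplicit false
set_option linter.style.haveILetI false
set_option backward.isDefEq.respectTransparency.types false
set_option maxHeartbeats 1000000

universe u

open CategoryTheory CategoryTheory.Limits AlgebraicGeometry Opposite TopologicalSpace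
open Groth.Agent.Coherent Groth.Agent.PicLib Groth.Agent.CubeLib

noncomputable section

namespace Groth.Agent.PicProj27

variable {n : ℕ} {P S : Scheme.{u}} {π : P ⟶ S} {h : P ⟶ CohB1.ProjSpace n (ULift.{u} ℤ)}

theorem locallyOfFinitePresentation (H : Quot8.IsPn n π h) : LocallyOfFinitePresentation π := by
  haveI := Coherent.isProper_projSpace_toSpec n (ULift.{u} ℤ)
  haveI : IsNoetherianRing (ULift.{u} ℤ) := isNoetherianRing_of_ringEquiv ℤ ULift.ringEquiv.symm
  haveI : LocallyOfFinitePresentation (CohB1.ProjSpace.toSpec n (ULift.{u} ℤ)) :=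
    Coherent.CohBC.locallyOfFinitePresentation_of_isLocallyNoetherian _
  exact MorphismProperty.of_isPullback (P := @LocallyOfFinitePresentation) H inferInstance

/-- The classes of the twists. -/
def tw (h : P ⟶ CohB1.ProjSpace n (ULift.{u} ℤ)) (t : ℤ) : PicM P := PicM.of (Quot8.isInvertible_OT h t)

theorem tw_add (a b : ℤ) : tw h (a + b) = tw h a * tw h b := by
  rw [tw, tw, tw, PicM.of_mul, PicM.of_eq_iff]
  exact (Quot8.nonempty_OT_add h rfl).map Iso.symm

theorem tw_zero : tw h 0 = 1 := (PicM.of_eq_one_iff _).2 (Quot8.nonempty_OT_zero h)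

theorem fibre_iso (H : Quot8.IsPn n π h) (s : S) :
    ∃ c : CohB1.ProjSpace n (S.residueField s) ≅ π.fiber s,
      c.hom ≫ π.fiberToSpecResidueField s = CohB1.ProjSpace.toSpec n (S.residueField s) ∧
      ∀ t : ℤ, Nonempty ((Scheme.Modules.pullback (c.hom ≫ π.fiberι s)).obj (Quot8.OT n h t) ≅
        Twist.twistProjSpace n (S.residueField s) t) := by
  obtain ⟨g, hg, hgt⟩ := H.exists_projSquare (R := S.residueField s) (S.fromSpecResidueField s)
  refine ⟨hg.isoPullback, hg.isoPullback_hom_snd, fun t => ?_⟩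
  obtain ⟨e⟩ := hgt t
  exact ⟨(Scheme.Modules.pullbackCongr hg.isoPullback_hom_fst).app _ ≪≫ e⟩

theorem bijective_algebraMap_fibre (H : Quot8.IsPn n π h) (s : S) :
    Function.Bijective (algebraMap (S.residueField s) Γ(π.fiber s, ⊤)) := by
  obtain ⟨c, hc, -⟩ := fibre_iso H s
  have h1 : IsIso (π.fiberToSpecResidueField s).appTop := by
    rw [show π.fiberToSpecResidueField s = c.inv ≫ CohB1.ProjSpace.toSpec n (S.residueField s) by
      rw [← hc, Iso.inv_hom_id_assoc], Scheme.Hom.comp_appTop]
    exact IsIso.comp_isIso' (Coherent.isIso_appTop_toSpec n (S.residueField s))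
      (inferInstanceAs (IsIso (c.inv.app ⊤)))
  haveI := h1
  exact (ConcreteCategory.bijective_of_isIso (π.fiberToSpecResidueField s).appTop).comp
    (ConcreteCategory.bijective_of_isIso (Scheme.ΓSpecIso (S.residueField s)).inv)

theorem isIntegral_fibre (H : Quot8.IsPn n π h) (s : S) : IsIntegral (π.fiber s) := by
  obtain ⟨c, -, -⟩ := fibre_iso H s
  haveI := CurveLib.isIntegral_projSpace (S.residueField s) n
  haveI : Nonempty (π.fiber s) :=
    (show Nonempty (CohB1.ProjSpace n (S.residueField s)) from inferInstance).map c.hom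
  exact isIntegral_of_isOpenImmersion c.inv

theorem subsingleton_H1_fibre (H : Quot8.IsPn n π h) (s : S) :
    Subsingleton (CohIII.fiberH π (Coh.structureModule P) s 1) := by
  obtain ⟨c, -, -⟩ := fibre_iso H s
  haveI := PicDef15.subsingleton_HH_of_isIso c.hom 1 (Coherent.subsingleton_HH_structureModule n (S.residueField s) 1 one_pos)
  exact (Groth.Agent.EulerLib.HHBaseEquiv (X := π.fiber s) (S.residueField s) (CohIII.fiberMod π (Coh.structureModule P) s) 1).trans
    ((isoA _ (FlatMor12.Cube.pullOne (π.fiberι s)) ⊤ 1).trans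
      (Groth.Agent.EulerLib.HHBaseEquiv (X := π.fiber s) (S.residueField s)
        (Coh.structureModule (π.fiber s)) 1).symm) |>.toEquiv.subsingleton

theorem pull_tw (H : Quot8.IsPn n π h) (s : S) {c : CohB1.ProjSpace n (S.residueField s) ≅ π.fiber s}
    (hc : ∀ t : ℤ, Nonempty ((Scheme.Modules.pullback (c.hom ≫ π.fiberι s)).obj (Quot8.OT n h t) ≅
      Twist.twistProjSpace n (S.residueField s) t)) (t : ℤ) :
    PicM.pull (c.hom ≫ π.fiberι s) (tw h t) =
      PicM.of (Coherent.isInvertible_twistProjSpaceZ n t (S.residueField s)) := by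
  rw [tw, PicM.pull_of, PicM.of_eq_iff]
  exact hc t

/-- Every class on `P^n_S` is a pullback times a twist. -/
theorem exists_eq [PreconnectedSpace S] [Nonempty S] (H : Quot8.IsPn n π h) (a : PicM P) :
    ∃ (b : PicM S) (d : ℤ), a = PicM.pull π b * tw h d := by
  haveI := H.isProper
  haveI := H.flat
  haveI := locallyOfFinitePresentation H
  let s₀ : S := Classical.arbitrary S
  obtain ⟨c, -, hc⟩ := fibre_iso H s₀
  obtain ⟨M, hM, hMe⟩ := PicM.exists_eq_of (PicM.pull (c.hom ≫ π.fiberι s₀) a)
  obtain ⟨d, hd⟩ := PicPn22.exists_iso_twist n (S.residueField s₀) M hM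
  have hae : PicM.pull (c.hom ≫ π.fiberι s₀) a = PicM.pull (c.hom ≫ π.fiberι s₀) (tw h d) := by
    rw [pull_tw H s₀ hc, hMe, PicM.of_eq_iff]
    exact hd
  obtain ⟨L, hL, hLe⟩ := PicM.exists_eq_of (a * tw h (-d))
  have h1 : PicM.pull (π.fiberι s₀) (PicM.of hL) = 1 := by
    have e : PicM.pull (c.hom ≫ π.fiberι s₀) (PicM.of hL) = 1 := by
      rw [← hLe, map_mul, hae, ← map_mul, ← tw_add, add_neg_cancel, tw_zero, map_one]
    rw [← PicM.pull_id (PicM.pull (π.fiberι s₀) (PicM.of hL)), ← c.inv_hom_id, ← PicM.pull_pull c.hom c.inv,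
      PicM.pull_pull (π.fiberι s₀) c.hom, e, map_one]
  obtain ⟨b, hb⟩ := FlatMor12.Cube.exists_eq_pull π (bijective_algebraMap_fibre H) hL (isIntegral_fibre H)
    (subsingleton_H1_fibre H) s₀ h1
  exact ⟨b, d, by rw [hb, ← hLe, mul_assoc, ← tw_add, neg_add_cancel, tw_zero, mul_one]⟩

/-- For positive dimension the two factors are unique. -/
theorem unique [Nonempty S] (H : Quot8.IsPn n π h) (hn : 1 ≤ n) {b b' : PicM S} {d d' : ℤ}
    (e : PicM.pull π b * tw h d = PicM.pull π b' * tw h d') : d = d' ∧ b = b' := by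
  haveI := H.isProper
  haveI := H.flat
  haveI := locallyOfFinitePresentation H
  let s₀ : S := Classical.arbitrary S
  obtain ⟨c, -, hc⟩ := fibre_iso H s₀
  have hpt : (c.hom ≫ π.fiberι s₀) ≫ π =
      (c.hom ≫ π.fiberToSpecResidueField s₀) ≫ S.fromSpecResidueField s₀ := by
    rw [Category.assoc, Category.assoc]
    exact congrArg (c.hom ≫ ·) pullback.condition
  have htriv : ∀ x : PicM S, PicM.pull (c.hom ≫ π.fiberι s₀) (PicM.pull π x) = 1 := fun x => by
    rw [PicM.pull_pull, hpt, ← PicM.pull_pull,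
      PicM.eq_one_of_field (S.residueField s₀) (PicM.pull (S.fromSpecResidueField s₀) x), map_one]
  have e1 := congrArg (PicM.pull (c.hom ≫ π.fiberι s₀)) e
  rw [map_mul, map_mul, htriv, htriv, one_mul, one_mul, pull_tw H s₀ hc, pull_tw H s₀ hc, PicM.of_eq_iff] at e1
  obtain ⟨φ⟩ := e1
  obtain rfl := PicPn22.eq_of_iso_twist n (S.residueField s₀) hn φ
  exact ⟨rfl, FlatMor12.Cube.pull_injective π (fun U =>
    haveI := FlatMor12.Cube.isIso_app_of_scalar π (bijective_algebraMap_fibre H) U
    ConcreteCategory.bijective_of_isIso _) (mul_right_cancel e)⟩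

end Groth.Agent.PicProj27
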